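import Cfsg.Agent.He5.QCls

/-! Subgroups of `O₆⁺(2)` over a dihedral group of order eight all of whose involutions are of
type `a₂`: kernel computations. -/

set_option autoImplicit false

namespace Cfsg.Agent.SylT.O6

open Cfsg.Agent.Comp Cfsg.Agent.He5

/-- basis vectors are orthogonal to their images -/
noncomputable def a2B (M : ℕ) : Bool :=
  allLT 6 fun i => Nat.beq (mq (2 ^ i) (col M i)) (mq (col M i) (2 ^ i))

/-- a power is an involution not of type `a₂` -/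
noncomputable def bd (g : ℕ) : Bool :=
  force g fun g => force (mm g g) fun g2 => ite' (Nat.beq g2 i6) (not' (a2B g))
    (force (mm g2 g2) fun g4 => ite' (Nat.beq g4 i6) (not' (a2B g2))
      (force (mm g2 g) fun g3 => and' (Nat.beq (mm g3 g3) i6) (not' (a2B g3))))

/-- the dihedral group -/
def dl : List ℕ := [nat_lit 34630287489, nat_lit 34764505219, nat_lit 43220222085, nat_lit 43354439815,
  nat_lit 51810156929, nat_lit 51944374663, nat_lit 60400091525, nat_lit 60534309251]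

def w1 : List (List ℕ) := [[0], [6, 0], [3, 0], [2, 0], [4, 0], [8, 0], [5, 0], [7, 0], [8, 0, 0], [6, 0, 0], [3, 0, 0], [3,
  0, 6, 0], [3, 0, 8, 0], [6, 0, 8, 0], [0, 4, 0, 7, 0], [0, 2, 0, 5, 0], [2, 0, 5, 0, 6, 0], [4,
  0, 7, 0, 6, 0]]

def wA : List (List ℕ) := [[0, 0, 5, 0], [0, 0, 7, 0], [0, 7, 0, 0, 7, 0], [0, 4, 0, 4], [0, 8, 0, 8], [0, 3, 0, 0], [7, 0,
  3, 0, 0], [3, 0, 0, 3, 0], [0, 4, 0, 0, 0], [0, 5, 0], [0, 5, 0, 7, 0], [0, 0, 7, 0, 0], [5, 0,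
  0, 3, 0], [0, 2, 0, 0, 0], [0, 2, 0, 6], [8, 0, 4, 0], [0, 7, 0, 0], [6, 0, 2, 0], [8, 0, 0, 2],
  [0, 6, 0, 2], [0, 0, 3, 0], [0, 0], [0, 3, 0, 0, 6, 0], [0, 7, 0, 0, 6], [8, 0, 0, 7, 0], [0, 7,
  0, 0, 8], [2, 0, 5, 0, 2], [4, 0, 7, 0, 0], [0, 0, 5, 0, 0], [4, 0, 7, 0, 2], [6, 0, 3, 0, 2],
  [2, 0, 3, 0, 5, 0], [0, 7, 0], [7, 0, 0], [0, 6, 0, 0, 0], [0, 8, 0, 0, 0], [2, 0, 0, 2, 0, 2],
  [6, 0, 6, 0], [0, 4, 0, 6], [0, 8, 0, 2], [0, 2, 0, 8], [8, 0, 8, 0], [6, 0, 0, 2], [2, 0, 2,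
  0], [2, 0, 6, 0], [8, 0, 2, 0], [4, 0, 4, 0], [0, 6, 0, 4], [2, 0, 0, 2], [0, 6, 0, 6], [6, 0,
  4, 0], [7, 0, 7, 0], [0, 2, 0, 2], [8, 0], [6, 0], [6, 0, 7, 0, 2], [8, 0, 4, 0, 0], [2, 0, 0,
  2, 0], [4, 0, 4, 0, 0], [6, 0, 2, 0, 0], [8, 0, 5, 0, 0], [0, 2, 0, 4, 0], [2, 0, 7, 0, 2], [4,
  0, 5, 0, 2], [2, 0, 6, 0, 0], [6, 0, 5, 0, 0], [2, 0, 0, 5, 0], [0, 0, 6, 0, 4], [0, 2, 0, 0,
  2], [8, 0, 5, 0, 2], [0, 7, 0, 0, 2], [0, 4, 0, 6, 0], [4, 0, 0, 7, 0], [0, 4, 0, 2, 0], [0, 3,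
  0, 0, 0], [0, 6, 0, 4, 0], [3, 0, 3, 0, 0], [0, 4, 0, 0, 4], [0, 7, 0, 0, 4], [4, 0, 0, 5, 0],
  [0, 0, 8, 0, 2], [8, 0, 2, 0, 7, 0], [2, 0, 5, 0, 6, 0], [2, 0, 0, 3, 0, 2]]

def wB : List (List ℕ) := [[0, 0, 2, 0], [0, 0, 4, 0], [0, 4, 0, 0, 4, 0], [0, 7, 0, 7], [0, 6, 0, 6], [0, 3, 0, 0], [4, 0,
  3, 0, 0], [3, 0, 0, 3, 0], [0, 7, 0, 0, 0], [0, 2, 0], [0, 2, 0, 4, 0], [2, 0, 0, 3, 0], [0, 0,
  4, 0, 0], [0, 5, 0, 0, 0], [6, 0, 7, 0], [0, 5, 0, 8], [0, 0, 3, 0], [8, 0, 5, 0], [6, 0, 0, 5],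
  [0, 4, 0, 0], [0, 8, 0, 5], [0, 0], [0, 4, 0, 0, 6], [6, 0, 0, 4, 0], [8, 0, 3, 0, 5], [5, 0, 2,
  0, 5], [0, 4, 0, 0, 8], [3, 0, 6, 0, 0], [7, 0, 4, 0, 5], [7, 0, 4, 0, 0], [0, 0, 2, 0, 0], [0,
  6, 0, 4, 0], [6, 0, 0, 3, 0, 5], [5, 0, 3, 0, 2, 0], [4, 0, 0], [0, 4, 0], [0, 6, 0, 0, 0], [0,
  8, 0, 0, 0], [6, 0, 6, 0], [5, 0, 8, 0], [0, 5, 0, 6], [5, 0, 0, 5], [8, 0, 0, 5], [8, 0, 8, 0],
  [5, 0, 6, 0], [6, 0, 5, 0], [7, 0, 6, 0], [4, 0, 4, 0], [0, 7, 0, 8], [0, 8, 0, 8], [0, 5, 0,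
  5], [5, 0, 5, 0], [8, 0, 7, 0], [7, 0, 7, 0], [0, 6, 0, 5], [0, 8, 0, 7], [6, 0, 2, 0, 5], [0,
  5, 0, 7, 0], [6, 0, 2, 0, 0], [8, 0, 5, 0, 0], [0, 5, 0, 0, 5], [7, 0, 2, 0, 5], [5, 0, 0, 5,
  0], [0, 4, 0, 0, 5], [8, 0, 0, 4, 0], [4, 0, 6, 0, 0], [5, 0, 4, 0, 5], [0, 4, 0, 0, 7], [0, 7,
  0, 0, 7], [6, 0, 4, 0, 0], [7, 0, 0, 2, 0], [0, 7, 0, 5, 0], [8, 0, 2, 0, 0], [0, 0, 6, 0, 5],
  [0, 3, 0, 0, 0], [8, 0, 4, 0, 5], [3, 0, 3, 0, 0], [7, 0, 0, 4, 0], [0, 0, 4, 0, 6], [5, 0, 0,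
  3, 0, 5], [7, 0, 3, 0, 4, 0], [5, 0, 3, 0, 4, 0]]

def w3 : List (List ℕ) := [[9, 10, 0], [10, 9, 0], [9, 10, 9, 0], [10, 0], [9, 0], [5, 9, 10, 0], [3, 9, 10, 0], [7, 9, 10,
  0], [3, 10, 0], [2, 10, 9, 0], [4, 10, 9, 0], [3, 10, 9, 0], [5, 10, 9, 0], [7, 10, 9, 0], [2,
  10, 0], [4, 10, 0], [6, 9, 10, 0], [10, 9, 8, 0], [8, 9, 10, 0], [10, 9, 6, 0], [8, 10, 0], [10,
  6, 9, 0], [5, 9, 0], [7, 9, 0], [9, 10, 6, 0]]

/-- words for the elements of `L₃(2)` -/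
def ws : List (List ℕ) := [[], [0], [1], [0, 0], [1, 0], [0, 1], [0, 0, 0], [1, 0, 0], [0, 1, 0], [0, 0, 1], [1, 0, 1], [0,
  0, 0, 0], [1, 0, 0, 0], [0, 1, 0, 0], [0, 0, 1, 0], [1, 0, 1, 0], [0, 0, 0, 1], [1, 0, 0, 1],
  [0, 1, 0, 1], [0, 0, 0, 0, 0], [1, 0, 0, 0, 0], [0, 1, 0, 0, 0], [0, 0, 1, 0, 0], [1, 0, 1, 0,
  0], [0, 0, 0, 1, 0], [1, 0, 0, 1, 0], [0, 0, 0, 0, 1], [1, 0, 0, 0, 1], [0, 1, 0, 0, 1], [0, 0,
  1, 0, 1], [1, 0, 1, 0, 1], [1, 0, 0, 0, 0, 0], [0, 1, 0, 0, 0, 0], [0, 0, 1, 0, 0, 0], [1, 0, 1,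
  0, 0, 0], [0, 0, 0, 1, 0, 0], [1, 0, 0, 1, 0, 0], [0, 0, 0, 0, 1, 0], [1, 0, 0, 0, 1, 0], [0, 1,
  0, 0, 1, 0], [0, 0, 0, 0, 0, 1], [1, 0, 0, 0, 0, 1], [0, 1, 0, 0, 0, 1], [0, 0, 1, 0, 0, 1], [1,
  0, 1, 0, 0, 1], [0, 0, 0, 1, 0, 1], [1, 0, 0, 1, 0, 1], [0, 1, 0, 0, 0, 0, 0], [0, 0, 1, 0, 0,
  0, 0], [1, 0, 1, 0, 0, 0, 0], [0, 0, 0, 1, 0, 0, 0], [1, 0, 0, 1, 0, 0, 0], [0, 0, 0, 0, 1, 0,
  0], [1, 0, 0, 0, 1, 0, 0], [0, 1, 0, 0, 1, 0, 0], [0, 0, 0, 0, 0, 1, 0], [1, 0, 0, 0, 0, 1, 0],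
  [0, 1, 0, 0, 0, 1, 0], [0, 0, 1, 0, 0, 1, 0], [0, 1, 0, 0, 0, 0, 1], [0, 0, 1, 0, 0, 0, 1], [1,
  0, 1, 0, 0, 0, 1], [0, 0, 0, 1, 0, 0, 1], [1, 0, 0, 1, 0, 0, 1], [0, 0, 0, 0, 1, 0, 1], [1, 0,
  0, 0, 1, 0, 1], [0, 0, 1, 0, 0, 0, 0, 0], [1, 0, 1, 0, 0, 0, 0, 0], [0, 0, 0, 1, 0, 0, 0, 0],
  [1, 0, 0, 1, 0, 0, 0, 0], [0, 0, 0, 0, 1, 0, 0, 0], [1, 0, 0, 0, 1, 0, 0, 0], [0, 1, 0, 0, 1, 0,
  0, 0], [0, 0, 0, 0, 0, 1, 0, 0], [1, 0, 0, 0, 0, 1, 0, 0], [0, 1, 0, 0, 0, 1, 0, 0], [0, 0, 1,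
  0, 0, 1, 0, 0], [0, 1, 0, 0, 0, 0, 1, 0], [0, 0, 1, 0, 0, 0, 1, 0], [1, 0, 1, 0, 0, 0, 1, 0],
  [0, 0, 0, 1, 0, 0, 1, 0], [1, 0, 0, 1, 0, 0, 1, 0], [0, 0, 1, 0, 0, 0, 0, 1], [1, 0, 1, 0, 0, 0,
  0, 1], [0, 0, 0, 1, 0, 0, 0, 1], [1, 0, 0, 1, 0, 0, 0, 1], [0, 0, 0, 0, 1, 0, 0, 1], [1, 0, 0,
  0, 1, 0, 0, 1], [0, 1, 0, 0, 1, 0, 0, 1], [0, 0, 0, 0, 0, 1, 0, 1], [1, 0, 0, 0, 0, 1, 0, 1],
  [0, 1, 0, 0, 0, 1, 0, 1], [0, 0, 0, 1, 0, 0, 0, 0, 0], [1, 0, 0, 1, 0, 0, 0, 0, 0], [0, 0, 0, 0,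
  1, 0, 0, 0, 0], [1, 0, 0, 0, 1, 0, 0, 0, 0], [0, 1, 0, 0, 1, 0, 0, 0, 0], [0, 0, 0, 0, 0, 1, 0,
  0, 0], [1, 0, 0, 0, 0, 1, 0, 0, 0], [0, 1, 0, 0, 0, 1, 0, 0, 0], [0, 0, 1, 0, 0, 1, 0, 0, 0],
  [0, 1, 0, 0, 0, 0, 1, 0, 0], [1, 0, 1, 0, 0, 0, 1, 0, 0], [0, 0, 0, 1, 0, 0, 1, 0, 0], [1, 0, 0,
  1, 0, 0, 1, 0, 0], [0, 0, 1, 0, 0, 0, 0, 1, 0], [1, 0, 1, 0, 0, 0, 0, 1, 0], [0, 0, 0, 1, 0, 0,
  0, 1, 0], [1, 0, 0, 1, 0, 0, 0, 1, 0], [0, 0, 0, 0, 1, 0, 0, 1, 0], [1, 0, 0, 0, 1, 0, 0, 1, 0],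
  [0, 0, 0, 1, 0, 0, 0, 0, 1], [1, 0, 0, 1, 0, 0, 0, 0, 1], [0, 0, 0, 0, 1, 0, 0, 0, 1], [0, 1, 0,
  0, 1, 0, 0, 0, 1], [0, 0, 0, 0, 0, 1, 0, 0, 1], [1, 0, 0, 0, 0, 1, 0, 0, 1], [0, 0, 1, 0, 0, 1,
  0, 0, 1], [0, 1, 0, 0, 0, 0, 1, 0, 1], [1, 0, 1, 0, 0, 0, 1, 0, 1], [0, 0, 0, 0, 1, 0, 0, 0, 0,
  0], [1, 0, 0, 0, 1, 0, 0, 0, 0, 0], [0, 1, 0, 0, 1, 0, 0, 0, 0, 0], [0, 0, 0, 0, 0, 1, 0, 0, 0,
  0], [0, 1, 0, 0, 0, 1, 0, 0, 0, 0], [0, 0, 1, 0, 0, 1, 0, 0, 0, 0], [0, 1, 0, 0, 0, 0, 1, 0, 0,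
  0], [1, 0, 1, 0, 0, 0, 1, 0, 0, 0], [0, 0, 0, 1, 0, 0, 1, 0, 0, 0], [1, 0, 0, 1, 0, 0, 1, 0, 0,
  0], [0, 0, 1, 0, 0, 0, 0, 1, 0, 0], [1, 0, 1, 0, 0, 0, 0, 1, 0, 0], [0, 0, 0, 0, 1, 0, 0, 1, 0,
  0], [1, 0, 0, 0, 1, 0, 0, 1, 0, 0], [0, 0, 0, 1, 0, 0, 0, 0, 1, 0], [1, 0, 0, 1, 0, 0, 0, 0, 1,
  0], [0, 0, 0, 0, 1, 0, 0, 0, 1, 0], [0, 1, 0, 0, 1, 0, 0, 0, 1, 0], [0, 0, 0, 0, 0, 1, 0, 0, 1,
  0], [1, 0, 0, 0, 0, 1, 0, 0, 1, 0], [0, 1, 0, 0, 1, 0, 0, 0, 0, 1], [0, 0, 0, 0, 0, 1, 0, 0, 0,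
  1], [0, 0, 1, 0, 0, 1, 0, 0, 0, 1], [0, 1, 0, 0, 0, 0, 1, 0, 0, 1], [0, 0, 0, 1, 0, 0, 1, 0, 0,
  1], [1, 0, 0, 1, 0, 0, 1, 0, 0, 1], [0, 0, 1, 0, 0, 0, 0, 1, 0, 1], [1, 0, 1, 0, 0, 0, 0, 1, 0,
  1], [0, 1, 0, 0, 0, 1, 0, 0, 0, 0, 0], [1, 0, 1, 0, 0, 0, 1, 0, 0, 0, 0], [0, 0, 0, 1, 0, 0, 1,
  0, 0, 0, 0], [0, 0, 1, 0, 0, 0, 0, 1, 0, 0, 0], [0, 0, 0, 0, 1, 0, 0, 1, 0, 0, 0], [1, 0, 0, 0,
  1, 0, 0, 1, 0, 0, 0], [0, 0, 0, 1, 0, 0, 0, 0, 1, 0, 0], [1, 0, 0, 1, 0, 0, 0, 0, 1, 0, 0], [0,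
  1, 0, 0, 1, 0, 0, 0, 0, 1, 0], [0, 0, 0, 0, 0, 1, 0, 0, 0, 1, 0], [0, 0, 1, 0, 0, 1, 0, 0, 0, 1,
  0], [0, 1, 0, 0, 0, 0, 1, 0, 0, 1, 0], [1, 0, 0, 1, 0, 0, 1, 0, 0, 0, 1], [0, 0, 1, 0, 0, 0, 0,
  1, 0, 0, 1], [1, 0, 0, 0, 1, 0, 0, 1, 0, 0, 1], [1, 0, 1, 0, 0, 0, 1, 0, 0, 0, 0, 0], [0, 0, 0,
  0, 1, 0, 0, 1, 0, 0, 0, 0], [1, 0, 0, 0, 1, 0, 0, 1, 0, 0, 0, 0], [1, 0, 0, 1, 0, 0, 0, 0, 1, 0,
  0, 0], [1, 0, 0, 1, 0, 0, 1, 0, 0, 0, 1, 0]]

def L0 : List ℕ := [nat_lit 34630287489, nat_lit 17859354693, nat_lit 17718845697, nat_lit 43759178055,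
  nat_lit 34766602307, nat_lit 43226501253, nat_lit 52489638342, nat_lit 26583503047,
  nat_lit 17324581188, nat_lit 52214911047, nat_lit 26310873347, nat_lit 60544807299,
  nat_lit 52485435846, nat_lit 9533673734, nat_lit 43499131330, nat_lit 34500264130,
  nat_lit 60945363270, nat_lit 51950661703, nat_lit 8868876420, nat_lit 25918726340,
  nat_lit 60813242757, nat_lit 60534309251, nat_lit 34772906115, nat_lit 9537859718,
  nat_lit 51822743937, nat_lit 26050826692, nat_lit 26721935811, nat_lit 60941168838,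
  nat_lit 60267970886, nat_lit 35043438658, nat_lit 9133109506, nat_lit 43098595650,
  nat_lit 26589814983, nat_lit 25912418500, nat_lit 60802736517, nat_lit 17326694468,
  nat_lit 17857278213, nat_lit 60806951109, nat_lit 52091171201, nat_lit 9275724162,
  nat_lit 9007280516, nat_lit 43901804997, nat_lit 26711449859, nat_lit 26317169091,
  nat_lit 60272156870, nat_lit 17999880513, nat_lit 17595134020, nat_lit 52082782657,
  nat_lit 9535762694, nat_lit 43769684295, nat_lit 9131004162, nat_lit 43088101698,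
  nat_lit 43501236546, nat_lit 34506563650, nat_lit 43757101191, nat_lit 26577232135,
  nat_lit 60542710083, nat_lit 60404285637, nat_lit 35171365057, nat_lit 51956953479,
  nat_lit 9000988804, nat_lit 43891318917, nat_lit 8870957444, nat_lit 43224416709,
  nat_lit 43895501253, nat_lit 35179749569, nat_lit 60400091525, nat_lit 51818549697,
  nat_lit 34764505219, nat_lit 9539965062, nat_lit 34638680193, nat_lit 8866762884,
  nat_lit 52086972865, nat_lit 51814351297, nat_lit 26052939972, nat_lit 17731432769,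
  nat_lit 52487532614, nat_lit 25916629444, nat_lit 26442998023, nat_lit 60676907331,
  nat_lit 18121515269, nat_lit 17995690305, nat_lit 60270067910, nat_lit 52225397127,
  nat_lit 34498166850, nat_lit 9265238274, nat_lit 35045527746, nat_lit 9139392898,
  nat_lit 52212801927, nat_lit 51944374663, nat_lit 26719834563, nat_lit 18125697285,
  nat_lit 26449289415, nat_lit 60668518787, nat_lit 17322483780, nat_lit 17853063429,
  nat_lit 34775003203, nat_lit 17863569477, nat_lit 17723044097, nat_lit 35035041858,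
  nat_lit 60410564997, nat_lit 9267343618, nat_lit 34642874561, nat_lit 60536406339,
  nat_lit 52483346502, nat_lit 9141498242, nat_lit 43096498626, nat_lit 9403633798,
  nat_lit 43354439815, nat_lit 43360727175, nat_lit 35301384323, nat_lit 26308780291,
  nat_lit 60274254150, nat_lit 17727234369, nat_lit 35175559297, nat_lit 17991495937,
  nat_lit 17597215044, nat_lit 60943241414, nat_lit 9005199748, nat_lit 35309768835,
  nat_lit 9399439622, nat_lit 43356537159, nat_lit 26046632132, nat_lit 43490742594,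
  nat_lit 43763372167, nat_lit 17328791876, nat_lit 43220222085, nat_lit 17590923332,
  nat_lit 26455593159, nat_lit 60679000451, nat_lit 35167166593, nat_lit 9003102340,
  nat_lit 25914515908, nat_lit 60809027781, nat_lit 34634481857, nat_lit 8873070980,
  nat_lit 35303477315, nat_lit 51682222150, nat_lit 51678036038, nat_lit 26445107463,
  nat_lit 26319262147, nat_lit 43230695877, nat_lit 18132000837, nat_lit 43090198978,
  nat_lit 26713542915, nat_lit 60939047238, nat_lit 34508660930, nat_lit 9273635202,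
  nat_lit 51684319686, nat_lit 26579308807, nat_lit 43492848066, nat_lit 52219093063,
  nat_lit 9401561350, nat_lit 43367018823, nat_lit 18127794245, nat_lit 17987297537,
  nat_lit 35037147330, nat_lit 17593037124, nat_lit 60670611779, nat_lit 9405755526,
  nat_lit 35311870019, nat_lit 52078584193, nat_lit 43897598085, nat_lit 51680133574,
  nat_lit 51810156929, nat_lit 26048745924, nat_lit 51946471495, nat_lit 60406370501]

def L1 : List ℕ := [nat_lit 34630287489, nat_lit 9265304866, nat_lit 35167199393, nat_lit 17593139036,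
  nat_lit 9273737122, nat_lit 9131070762, nat_lit 43895599597, nat_lit 52489706998,
  nat_lit 17591024732, nat_lit 17324617548, nat_lit 9139462058, nat_lit 26589849839,
  nat_lit 43367119687, nat_lit 35171463393, nat_lit 43891351725, nat_lit 52487634038,
  nat_lit 43224416709, nat_lit 51684355526, nat_lit 17322519628, nat_lit 60679069627,
  nat_lit 60404285637, nat_lit 26721971171, nat_lit 9141599658, nat_lit 34642942145,
  nat_lit 26579375407, nat_lit 43354439815, nat_lit 26455660791, nat_lit 43769719663,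
  nat_lit 34634481857, nat_lit 43220222085, nat_lit 51682257990, nat_lit 26310939963,
  nat_lit 52225465783, nat_lit 60943310590, nat_lit 60536406339, nat_lit 17326729292,
  nat_lit 9133209386, nat_lit 60676943739, nat_lit 60410634117, nat_lit 26713609507,
  nat_lit 60544909187, nat_lit 60807049469, nat_lit 26319330299, nat_lit 9275792802,
  nat_lit 35179784417, nat_lit 26445174071, nat_lit 43757133999, nat_lit 60274290502,
  nat_lit 34775103555, nat_lit 17857378109, nat_lit 52078617009, nat_lit 26046701268,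
  nat_lit 43226569349, nat_lit 51678036038, nat_lit 17328827212, nat_lit 51680133574,
  nat_lit 26317204987, nat_lit 52219128951, nat_lit 60945465214, nat_lit 51957054855,
  nat_lit 60272193222, nat_lit 60670677371, nat_lit 17595234396, nat_lit 9267443490,
  nat_lit 60542811971, nat_lit 60813344701, nat_lit 51814351297, nat_lit 25914551756,
  nat_lit 9537960630, nat_lit 35303542883, nat_lit 34498166850, nat_lit 17718879025,
  nat_lit 60802769341, nat_lit 26443031351, nat_lit 43763440303, nat_lit 34638747777,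
  nat_lit 43230763973, nat_lit 60270067910, nat_lit 34764505219, nat_lit 17859390589,
  nat_lit 52082881009, nat_lit 26048814548, nat_lit 35311904867, nat_lit 18125797165,
  nat_lit 51810156929, nat_lit 25912454860, nat_lit 43897698989, nat_lit 52483412086,
  nat_lit 17597315932, nat_lit 52485534198, nat_lit 26719903203, nat_lit 51950763079,
  nat_lit 35045595362, nat_lit 17999915873, nat_lit 17987330849, nat_lit 9001089692,
  nat_lit 9405855934, nat_lit 8868944020, nat_lit 34506598466, nat_lit 43088101698,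
  nat_lit 51946471495, nat_lit 26308813627, nat_lit 35175659681, nat_lit 26449325815,
  nat_lit 43759243631, nat_lit 51822812545, nat_lit 25918761164, nat_lit 9533740342,
  nat_lit 35301417123, nat_lit 34508695746, nat_lit 17731533681, nat_lit 9403701950,
  nat_lit 34766602307, nat_lit 35035107426, nat_lit 60400091525, nat_lit 26577265455,
  nat_lit 43360828039, nat_lit 43901840365, nat_lit 60941267198, nat_lit 18127895661,
  nat_lit 9005301660, nat_lit 35037245666, nat_lit 43499199466, nat_lit 43490808170,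
  nat_lit 18121548589, nat_lit 17723143985, nat_lit 8866830996, nat_lit 43096533954,
  nat_lit 35309836451, nat_lit 18132035693, nat_lit 60267970886, nat_lit 60668551611,
  nat_lit 60534309251, nat_lit 60809064189, nat_lit 35043539042, nat_lit 17991595809,
  nat_lit 17995792225, nat_lit 9399506238, nat_lit 8871026580, nat_lit 34500264130,
  nat_lit 9540032694, nat_lit 9003202716, nat_lit 52214976631, nat_lit 26711483171,
  nat_lit 26583572207, nat_lit 43356537159, nat_lit 52091272625, nat_lit 26053007572,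
  nat_lit 9007381916, nat_lit 51944374663, nat_lit 43098630978, nat_lit 17853096765,
  nat_lit 9401661246, nat_lit 34773006467, nat_lit 51818618305, nat_lit 25916664780,
  nat_lit 43501337450, nat_lit 43492946410, nat_lit 17727270769, nat_lit 8873139604,
  nat_lit 17863669885, nat_lit 60939112830, nat_lit 60406439621, nat_lit 9535862582,
  nat_lit 26050894804, nat_lit 43090198978, nat_lit 52212834743, nat_lit 52087008753]

def L2 : List ℕ := [nat_lit 34630287489, nat_lit 18432401732, nat_lit 17718845697, nat_lit 15837188482,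
  nat_lit 35642163394, nat_lit 11033661572, nat_lit 49272086981, nat_lit 15568744836,
  nat_lit 23228588101, nat_lit 50717024578, nat_lit 13445902594, nat_lit 66327703750,
  nat_lit 29944734147, nat_lit 48919744962, nat_lit 13880021254, nat_lit 37988876355,
  nat_lit 60898701701, nat_lit 33537155268, nat_lit 43310911621, nat_lit 59584819271,
  nat_lit 64183890246, nat_lit 36262932673, nat_lit 65774043333, nat_lit 29357511108,
  nat_lit 43757101191, nat_lit 11769753734, nat_lit 53644112326, nat_lit 60596711811,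
  nat_lit 38350123074, nat_lit 63557353798, nat_lit 26362253571, nat_lit 59849592903,
  nat_lit 52075966855, nat_lit 23077597252, nat_lit 19086733633, nat_lit 59232493638,
  nat_lit 63898657091, nat_lit 63814791491, nat_lit 26577232135, nat_lit 51393859911,
  nat_lit 34217660615, nat_lit 53614236102, nat_lit 53174350273, nat_lit 18210631941,
  nat_lit 23015747652, nat_lit 52212801927, nat_lit 65674944710, nat_lit 26711449859,
  nat_lit 29592392131, nat_lit 52344410503, nat_lit 13477351682, nat_lit 38374756418,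
  nat_lit 26563596551, nat_lit 59262386246, nat_lit 51841094017, nat_lit 52109521281,
  nat_lit 66260594885, nat_lit 34823762051, nat_lit 60534309251, nat_lit 34107580615,
  nat_lit 33647235268, nat_lit 52909593025, nat_lit 11669082246, nat_lit 35360624771,
  nat_lit 29991915971, nat_lit 51944374663, nat_lit 35192860801, nat_lit 43891318917,
  nat_lit 35709272257, nat_lit 48684863941, nat_lit 43220222085, nat_lit 11098656900,
  nat_lit 18121515269, nat_lit 35301384323, nat_lit 43478691975, nat_lit 26442998023,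
  nat_lit 29240091076, nat_lit 60088135750, nat_lit 18823524673, nat_lit 17942212869,
  nat_lit 53161238977, nat_lit 60802736517, nat_lit 38048133187, nat_lit 51287449927,
  nat_lit 37787549762, nat_lit 51058315586, nat_lit 50873778503, nat_lit 13812896006,
  nat_lit 19075195201, nat_lit 36255064257, nat_lit 49349145029, nat_lit 29538918851,
  nat_lit 18789970244, nat_lit 18009321729, nat_lit 22725271620, nat_lit 18801500481,
  nat_lit 65706934470, nat_lit 63529558342, nat_lit 26308780291, nat_lit 50672451906,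
  nat_lit 11570540678, nat_lit 63943217475, nat_lit 43354439815, nat_lit 36195823810,
  nat_lit 48567443906, nat_lit 26697797895, nat_lit 60050919494, nat_lit 15398867332,
  nat_lit 35734966465, nat_lit 33587482820, nat_lit 52889141697, nat_lit 17740869889,
  nat_lit 23317737541, nat_lit 17853063429, nat_lit 60400091525, nat_lit 60668518787,
  nat_lit 33966006471, nat_lit 15499555204, nat_lit 66429915334, nat_lit 48594174405,
  nat_lit 15633748354, nat_lit 36238282946, nat_lit 11266437252, nat_lit 13678694658,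
  nat_lit 15333872004, nat_lit 59735810119, nat_lit 34655981697, nat_lit 33462689988,
  nat_lit 51002224967, nat_lit 13714354438, nat_lit 51810156929, nat_lit 65859489989,
  nat_lit 23580913733, nat_lit 18717634884, nat_lit 34764505219, nat_lit 43881336967,
  nat_lit 48527065538, nat_lit 22797639748, nat_lit 37830025282, nat_lit 51035779394,
  nat_lit 13915664646, nat_lit 11738304646, nat_lit 52792140230, nat_lit 38576083011,
  nat_lit 48879382978, nat_lit 15801545090, nat_lit 59463712839, nat_lit 64278761798,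
  nat_lit 23502282821, nat_lit 15602299266, nat_lit 26764923139, nat_lit 18504769860,
  nat_lit 60730904963, nat_lit 34090799303, nat_lit 29169820100, nat_lit 52078584193,
  nat_lit 63758680387, nat_lit 66178261189, nat_lit 13647245570, nat_lit 60496023941,
  nat_lit 52822032838, nat_lit 17987297537, nat_lit 29287272900, nat_lit 38534668355,
  nat_lit 35167166593, nat_lit 43982008453, nat_lit 35684638914, nat_lit 11201441924]

def L3 : List ℕ := [nat_lit 34630287489, nat_lit 7631072066, nat_lit 35167199393, nat_lit 36029685613,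
  nat_lit 48527065538, nat_lit 7547214661, nat_lit 6050852605, nat_lit 1133116871,
  nat_lit 66454087789, nat_lit 35475992396, nat_lit 48879497711, nat_lit 13714437691,
  nat_lit 51148009207, nat_lit 2947094561, nat_lit 64278843773, nat_lit 59463712839,
  nat_lit 6134808312, nat_lit 1116253638, nat_lit 65598462032, nat_lit 60196256792,
  nat_lit 7278804539, nat_lit 18009404960, nat_lit 48594174405, nat_lit 2242451457,
  nat_lit 26308813627, nat_lit 64390560759, nat_lit 13915780663, nat_lit 50594430680,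
  nat_lit 2913581091, nat_lit 63557353798, nat_lit 59849642096, nat_lit 26362336312,
  nat_lit 37640338904, nat_lit 6509165575, nat_lit 52375961120, nat_lit 65615226956,
  nat_lit 8335715183, nat_lit 51671318040, nat_lit 60668551611, nat_lit 26764973088,
  nat_lit 61135723552, nat_lit 7379443261, nat_lit 17740985904, nat_lit 49349259752,
  nat_lit 2276046851, nat_lit 26711483171, nat_lit 63467744204, nat_lit 52212834743,
  nat_lit 43749283888, nat_lit 3817430904, nat_lit 38374805601, nat_lit 13477434413,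
  nat_lit 63943299448, nat_lit 59262386246, nat_lit 35459260240, nat_lit 1636433392,
  nat_lit 17942296120, nat_lit 59187509464, nat_lit 51944374663, nat_lit 38126792187,
  nat_lit 6542662657, nat_lit 51570630160, nat_lit 66504431729, nat_lit 8453184360,
  nat_lit 52476599848, nat_lit 60534309251, nat_lit 1910094048, nat_lit 17853096765,
  nat_lit 52889141697, nat_lit 43044640784, nat_lit 43220222085, nat_lit 3321436225,
  nat_lit 60802769341, nat_lit 26443031351, nat_lit 63417482200, nat_lit 35301417123,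
  nat_lit 5413318342, nat_lit 7482244151, nat_lit 34922428976, nat_lit 66260676856,
  nat_lit 1893263585, nat_lit 18121548589, nat_lit 43078236184, nat_lit 3767054203,
  nat_lit 37787549762, nat_lit 13678744609, nat_lit 63758680387, nat_lit 60050968689,
  nat_lit 35979308913, nat_lit 1619570161, nat_lit 18210747944, nat_lit 59875322095,
  nat_lit 2206857735, nat_lit 36263014624, nat_lit 3338201154, nat_lit 53432871777,
  nat_lit 52822032838, nat_lit 52728228684, nat_lit 43757133999, nat_lit 50672451906,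
  nat_lit 59892152571, nat_lit 26563646512, nat_lit 34764505219, nat_lit 13647328803,
  nat_lit 50510474956, nat_lit 38576132192, nat_lit 13812978749, nat_lit 7611161665,
  nat_lit 34385517072, nat_lit 2173262341, nat_lit 35709272257, nat_lit 53174465008,
  nat_lit 43715770424, nat_lit 43891351725, nat_lit 60400091525, nat_lit 26577265455,
  nat_lit 64306605027, nat_lit 5497274051, nat_lit 7448632369, nat_lit 65774043333,
  nat_lit 49117994081, nat_lit 2743687725, nat_lit 5435423687, nat_lit 51058397549,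
  nat_lit 3247005509, nat_lit 4177061987, nat_lit 52644371280, nat_lit 5485685698,
  nat_lit 34419112472, nat_lit 66327785723, nat_lit 51810156929, nat_lit 60229753872,
  nat_lit 61169335336, nat_lit 6574161411, nat_lit 43354439815, nat_lit 4227405920,
  nat_lit 35642163394, nat_lit 7560801350, nat_lit 48362990668, nat_lit 2710174255,
  nat_lit 53644227063, nat_lit 53550340989, nat_lit 59170678988, nat_lit 26697880616,
  nat_lit 13446018607, nat_lit 51231964899, nat_lit 37988876355, nat_lit 13880071217,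
  nat_lit 49000524925, nat_lit 38143655407, nat_lit 51393941864, nat_lit 3263737670,
  nat_lit 8315804784, nat_lit 34955942456, nat_lit 1188620482, nat_lit 17987330849,
  nat_lit 50873778503, nat_lit 6324546541, nat_lit 36195905763, nat_lit 48413350992,
  nat_lit 65706934470, nat_lit 52078617009, nat_lit 6473473541, nat_lit 8198335607,
  nat_lit 17718879025, nat_lit 6408502248, nat_lit 37623475660, nat_lit 1205450947]

/-- the four groups `L₃(2)` -/
def cs : List (ℕ × ℕ × List ℕ × List ℕ) := [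
  (34498166850, 17718845697, [10, 9, 2], L0), 
  (34498166850, 35167199393, [9, 10, 5], L1), 
  (35709272257, 17718845697, [10, 9, 2], L2), 
  (35709272257, 35167199393, [10, 9, 2, 5], L3)]

def UU : List ℕ := L0 ++ (L1 ++ (L2 ++ L3))

theorem st1 : allO (fun M => or' (anyL w1 fun W => bd (evM (M :: dl) W)) (anyL UU (Nat.beq M))) =
    true := by decide +kernel

noncomputable def st2B (w : List (List ℕ)) (i j j' : ℕ) : Bool :=
  allL UU fun M => or' (not' (Nat.beq (mq (col M i) (2 ^ ((i + 3) % 6))) (mq (2 ^ ((i + 3) % 6)) (col M i))))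
    (anyL w fun W => force (evM (M :: dl) W) fun g => or' (Nat.beq g j) (Nat.beq g j'))

theorem st2A : st2B wA 0 34498166850 35709272257 = true := by decide +kernel
theorem st2B' : st2B wB 5 17718845697 35167199393 = true := by decide +kernel

noncomputable def st3B (c : ℕ × ℕ × List ℕ × List ℕ) : Bool :=
  force (evM (i6 :: (dl ++ [c.1, c.2.1])) c.2.2.1) fun o =>
    and' (BN.eqL (ws.map (evM [o, c.2.1])) c.2.2.2)
      (and' (and' (Nat.beq (evM [o] [0, 0, 0, 0, 0, 0, 0]) i6) (not' (Nat.beq o i6)))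
        (and' (and' (Nat.beq (evM [o, c.2.1] [1, 1]) i6) (not' (Nat.beq (evM [o, c.2.1] [1, 0]) i6)))
          (and' (Nat.beq (evM [o, c.2.1] [1, 0, 1, 0, 1, 0]) i6)
            (allL UU fun M => or' (anyL c.2.2.2 (Nat.beq M))
              (anyL w3 fun W => bd (evM (M :: (dl ++ [c.1, c.2.1])) W))))))

theorem st3 : allL cs st3B = true := by decide +kernel

end Cfsg.Agent.SylT.O6
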