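import Cfsg.Agent.Syl8.Tab
import Cfsg.Agent.TT.RowW5
import Cfsg.Agent.Comp.MatClass

/-! The Sylow `2`-subgroup of `U₅(2)` as a table group. -/

set_option autoImplicit false
set_option maxRecDepth 100000

namespace Cfsg.Agent.SylT.U5

open Subgroup Cfsg.Agent.Comp Cfsg.Agent.LES Cfsg.Agent.X32 Cfsg.Agent.KSG.Pc Cfsg.Agent.Std.PcT
  Cfsg.Agent.Class

def RR : List (List ℕ × List ℕ) := [([0, 0], []), ([1, 1], []), ([0, 1], [1, 0]), ([2, 2], []), ([0, 2], [2, 0]), ([1, 2], [2, 1]),
  ([3, 3], []), ([0, 3], [3, 0]), ([1, 3], [3, 1]), ([2, 3], [3, 2]), ([4, 4], [0]), ([0, 4], [4,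
  0]), ([1, 4], [4, 1]), ([2, 4], [4, 2]), ([3, 4], [4, 3]), ([5, 5], [0]), ([0, 5], [5, 0]), ([1,
  5], [5, 1]), ([2, 5], [5, 2]), ([3, 5], [5, 3]), ([4, 5], [5, 4, 0]), ([6, 6], [3]), ([0, 6],
  [6, 0]), ([1, 6], [6, 1]), ([2, 6], [6, 2]), ([3, 6], [6, 3]), ([4, 6], [6, 4, 1, 0]), ([5, 6],
  [6, 5, 2, 0]), ([7, 7], [3]), ([0, 7], [7, 0]), ([1, 7], [7, 1]), ([2, 7], [7, 2]), ([3, 7], [7,
  3]), ([4, 7], [7, 4, 2, 0]), ([5, 7], [7, 5, 2, 1]), ([6, 7], [7, 6, 3]), ([8, 8], []), ([0, 8],
  [8, 0]), ([1, 8], [8, 1]), ([2, 8], [8, 2, 0]), ([3, 8], [8, 3, 1]), ([4, 8], [8, 4, 0]), ([5,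
  8], [8, 5, 0]), ([6, 8], [8, 6, 4, 0]), ([7, 8], [8, 7, 5, 4, 2]), ([9, 9], []), ([0, 9], [9,
  0]), ([1, 9], [9, 1, 0]), ([2, 9], [9, 2]), ([3, 9], [9, 3, 2]), ([4, 9], [9, 4, 0]), ([5, 9],
  [9, 5, 0]), ([6, 9], [9, 6, 5, 2]), ([7, 9], [9, 7, 4, 0]), ([8, 9], [9, 8])]

def C3 : ℕ := 0x70006000500040003000200010000
def C4 : ℕ := 0xf000e000d000c000b000a0009000800070006000500040003000200010000
def C5 : ℕ := 0x1e001f001c001d001a001b0018001900160017001400150012001300100011000f000e000d000c000b000a0009000800070006000500040003000200010000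
def C6 : ℕ := 0x390038003b003a003d003c003f003e00310030003300320035003400370036002a002b00280029002e002f002c002d00220023002000210026002700240025001c001d001e001f00180019001a001b00140015001600170010001100120013000f000e000d000c000b000a0009000800070006000500040003000200010000
def C7 : ℕ := 0x740075007600770070007100720073007c007d007e007f00780079007a007b0061006000630062006500640067006600690068006b006a006d006c006f006e00520053005000510056005700540055005a005b00580059005e005f005c005d00470046004500440043004200410040004f004e004d004c004b004a00490048003c003d003e003f00380039003a003b0034003500360037003000310032003300290028002b002a002d002c002f002e00210020002300220025002400270026001a001b00180019001e001f001c001d00120013001000110016001700140015000f000e000d000c000b000a0009000800070006000500040003000200010000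
def C8 : ℕ := 0xdf00de00dd00dc00da00db00d800d900d500d400d700d600d000d100d200d300ce00cf00cc00cd00cb00ca00c900c800c400c500c600c700c100c000c300c200ff00fe00fd00fc00fa00fb00f800f900f500f400f700f600f000f100f200f300ee00ef00ec00ed00eb00ea00e900e800e400e500e600e700e100e000e300e200890088008b008a008c008d008e008f0083008200810080008600870084008500990098009b009a009c009d009e009f0093009200910090009600970094009500a800a900aa00ab00ad00ac00af00ae00a200a300a000a100a700a600a500a400b800b900ba00bb00bd00bc00bf00be00b200b300b000b100b700b600b500b4006d006c006f006e00680069006a006b00670066006500640062006300600061007d007c007f007e00780079007a007b00770076007500740072007300700071004d004c004f004e00480049004a004b00470046004500440042004300400041005d005c005f005e00580059005a005b00570056005500540052005300500051003c003d003e003f00390038003b003a00360037003400350033003200310030002d002c002f002e00280029002a002b00270026002500240022002300200021001d001c001f001e00180019001a001b00170016001500140012001300100011000c000d000e000f00090008000b000a00060007000400050003000200010000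
def C9 : ℕ := 0x1cc01cd01cf01ce01c801c901cb01ca01c001c101c301c201c401c501c701c601dc01dd01df01de01d801d901db01da01d001d101d301d201d401d501d701d601ed01ec01ee01ef01e901e801ea01eb01e101e001e201e301e501e401e601e701fd01fc01fe01ff01f901f801fa01fb01f101f001f201f301f501f401f601f701ab01aa01a801a901af01ae01ac01ad01a701a601a401a501a301a201a001a101bb01ba01b801b901bf01be01bc01bd01b701b601b401b501b301b201b001b1018b018a01880189018f018e018c018d01870186018401850183018201800181019b019a01980199019f019e019c019d01970196019401950193019201900191015f015e015c015d015b015a0158015901530152015001510157015601540155014e014f014d014c014a014b0149014801420143014101400146014701450144017f017e017c017d017b017a0178017901730172017001710177017601740175016e016f016d016c016a016b0169016801620163016101600166016701650164013a013b01390138013e013f013d013c01360137013501340132013301310130012b012a01280129012f012e012c012d01270126012401250123012201200121011b011a01180119011f011e011c011d01170116011401150113011201100111010a010b01090108010e010f010d010c0106010701050104010201030101010000cc00cd00c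f00ce00c800c900cb00ca00c000c100c300c200c400c500c700c600dc00dd00df00de00d800d900db00da00d000d100d300d200d400d500d700d600ed00ec00ee00ef00e900e800ea00eb00e100e000e200e300e500e400e600e700fd00fc00fe00ff00f900f800fa00fb00f100f000f200f300f500f400f600f700ab00aa00a800a900af00ae00ac00ad00a700a600a400a500a300a200a000a100bb00ba00b800b900bf00be00bc00bd00b700b600b400b500b300b200b000b1008b008a00880089008f008e008c008d00870086008400850083008200800081009b009a00980099009f009e009c009d00970096009400950093009200900091005f005e005c005d005b005a0058005900530052005000510057005600540055004e004f004d004c004a004b0049004800420043004100400046004700450044007f007e007c007d007b007a0078007900730072007000710077007600740075006e006f006d006c006a006b0069006800620063006100600066006700650064003a003b00390038003e003f003d003c00360037003500340032003300310030002b002a00280029002f002e002c002d00270026002400250023002200200021001b001a00180019001f001e001c001d00170016001400150013001200100011000a000b00090008000e000f000d000c00060007000500040002000300010000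

noncomputable def m1 := stp 1 0 0x0 fun _ _ => 0
noncomputable def m2 := stp 2 0 0x10000 m1
noncomputable def m3 := stp 4 0 0x3000200010000 m2
noncomputable def m4 := stp 8 0 C3 m3
noncomputable def m5 := stp 16 1 C4 m4
noncomputable def m6 := stp 32 1 C5 m5
noncomputable def m7 := stp 64 8 C6 m6
noncomputable def m8 := stp 128 8 C7 m7
noncomputable def m9 := stp 256 0 C8 m8
noncomputable def m10 := stp 512 0 C9 m9
noncomputable def i1 := sti 1 0 0x0 (fun _ _ => 0) fun _ => 0
noncomputable def i2 := sti 2 0 0x10000 m1 i1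
noncomputable def i3 := sti 4 0 0x3000200010000 m2 i2
noncomputable def i4 := sti 8 0 C3 m3 i3
noncomputable def i5 := sti 16 1 C4 m4 i4
noncomputable def i6 := sti 32 1 C5 m5 i5
noncomputable def i7 := sti 64 8 C6 m6 i6
noncomputable def i8 := sti 128 8 C7 m7 i7
noncomputable def i9 := sti 256 0 C8 m8 i8
noncomputable def i10 := sti 512 0 C9 m9 i9

variable {G : Type*} [Group G] {x : ℕ → G}

theorem inj_step {j : ℕ} {m : ℕ → ℕ → ℕ} {iv : ℕ → ℕ} (H : Sound x j m iv) (hj : j < 10)
    (a : ∀ u < 2 ^ 10, el x u = 1 → u = 0)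
    (h : ∀ u < 2 ^ j, ∀ v < 2 ^ j, el x u = el x v → u = v) :
    ∀ u < 2 ^ (j + 1), ∀ v < 2 ^ (j + 1), el x u = el x v → u = v := by
  have k : ∀ u < 2 ^ j, ∀ v < 2 ^ j, el x (2 ^ j + u) ≠ el x v := fun u hu v hv e => by
    have b := H.inv v hv
    have c := H.mul u hu _ b.1
    have := Nat.pow_le_pow_right two_pos (hj : j + 1 ≤ 10)
    have := a (2 ^ j + m u (iv v)) (by omega) (by
      rw [el_add (by omega) c.1, ← c.2, ← mul_assoc, ← el_add (by omega) hu, e,
        mul_eq_one_comm.1 b.2])
    omega
  intro u hu' v hv' e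
  rcases lt_cases hu' with hu | ⟨u, hu, rfl⟩ <;> rcases lt_cases hv' with hv | ⟨v, hv, rfl⟩
  · exact h u hu v hv e
  · exact absurd e.symm (k v hv u hu)
  · exact absurd e (k u hu v hv)
  · rw [el_add (by omega) hu, el_add (by omega) hv, mul_right_inj] at e
    rw [h u hu v hv e]

theorem rank_chk : allB 1024 (fun u => or' (Nat.blt u 2) (anyL [16, 64, 128, 256, 512] fun g =>
    force (m10 (m10 (m10 u g) (i10 u)) (i10 g)) fun c => and' (Nat.blt 0 c) (Nat.blt c u))) = true := by
  decide +kernel

theorem sound (h : ∀ r ∈ RR, BN.ev x r.1 = BN.ev x r.2) (h0 : x 0 ≠ 1) : Sound x 10 m10 i10 ∧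
    ∀ u < 2 ^ 10, ∀ v < 2 ^ 10, el x u = el x v → u = v := by
  have e := Syl8.esound h
  have a1 : Sound x 1 m1 i1 :=
    sound_zero.step e (by decide) rfl (by decide +kernel) (by decide +kernel)
  have a2 : Sound x 2 m2 i2 :=
    a1.step e (by decide) rfl (by decide +kernel) (by decide +kernel)
  have a3 : Sound x 3 m3 i3 :=
    a2.step e (by decide) rfl (by decide +kernel) (by decide +kernel)
  have a4 : Sound x 4 m4 i4 :=
    a3.step e (by decide) rfl (by decide +kernel) (by decide +kernel)
  have a5 : Sound x 5 m5 i5 :=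
    a4.step e (by decide) rfl (by decide +kernel) (by decide +kernel)
  have a6 : Sound x 6 m6 i6 :=
    a5.step e (by decide) rfl (by decide +kernel) (by decide +kernel)
  have a7 : Sound x 7 m7 i7 :=
    a6.step e (by decide) rfl (by decide +kernel) (by decide +kernel)
  have a8 : Sound x 8 m8 i8 :=
    a7.step e (by decide) rfl (by decide +kernel) (by decide +kernel)
  have a9 : Sound x 9 m9 i9 :=
    a8.step e (by decide) rfl (by decide +kernel) (by decide +kernel)
  have a10 : Sound x 10 m10 i10 :=
    a9.step e (by decide) rfl (by decide +kernel) (by decide +kernel)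
  have a : ∀ u < 2 ^ 10, el x u = 1 → u = 0 := fun u hu => by
    induction u using Nat.strong_induction_on with
    | _ u ih =>
    intro r
    have b := (allB_iff _ _).1 rank_chk u hu
    simp only [or'_eq_true, blt_iff, anyL_iff, force_eq, and'_eq_true] at b
    rcases b with b | ⟨g, hg, b, c⟩
    · obtain rfl | rfl : u = 0 ∨ u = 1 := by omega
      exacts [rfl, absurd ((el_pow (i := 0) (by decide)).symm.trans r) h0]
    have g1 : g < 2 ^ 10 := by simp at hg; omega
    have d1 := a10.mul u hu g g1
    have d2 := a10.inv u hu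
    have d3 := a10.inv g g1
    have d4 := a10.mul _ d1.1 _ d2.1
    have d5 := a10.mul _ d4.1 _ d3.1
    refine absurd (ih _ c d5.1 ?_) b.ne'
    rw [r, mul_one] at d2
    rw [← d5.2, ← d4.2, ← d1.2, r, d2.2, one_mul, mul_one, mul_eq_one_comm.1 d3.2]
  exact ⟨a10, inj_step a9 (by decide) a (inj_step a8 (by decide) a (inj_step a7 (by decide) a
    (inj_step a6 (by decide) a (inj_step a5 (by decide) a (inj_step a4 (by decide) a
    (inj_step a3 (by decide) a (inj_step a2 (by decide) a (inj_step a1 (by decide) a
    (inj_step sound_zero (by decide) a fun u hu v hv _ => by omega)))))))))⟩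

/-- matrices from codes -/
def mk (c : ℕ) : Matrix (Fin 5) (Fin 5) GF4 := fun i j =>
  ⟨if c.testBit (10 * i + 2 * j) then 1 else 0, if c.testBit (10 * i + 2 * j + 1) then 1 else 0⟩

theorem gf4_pow : ∀ a : GF4, a * a * (a * a) = a := by decide +kernel

/-- elements of `SU₅(2)` -/
def su (c : ℕ) (h : mk c * mk c * (mk c * mk c) = 1 := by decide +kernel)
    (h' : ∀ i j, ∑ k, mk c k i * mk c k j ^ 2 = if i = j then 1 else 0 := by decide +kernel) :
    SU 5 GF4 2 :=
  ⟨⟨mk c, by rw [← gf4_pow (mk c).det, ← Matrix.det_mul, ← Matrix.det_mul, h, Matrix.det_one]⟩, by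
    have := U.UF.of_card (q := 2) card_GF4
    refine U.mem_SU_iff.2 (U.pres_iff.2 ?_)
    ext1 i j
    rw [Matrix.mul_apply, Matrix.one_apply, ← h']
    rfl⟩

def xu : ℕ → SU 5 GF4 2 := tup [su 281543712965636, su 281554461115636, su 281549087002705, su 281502971839732,
  su 287041271377166, su 298052509940395, su 551657069099275, su 380952247185326,
  su 298036398442036, su 298041756684865]

theorem xu_rel : ∀ r ∈ RR, BN.ev xu r.1 = BN.ev xu r.2 := by decide +kernel

theorem xu_sound : Sound xu 10 m10 i10 ∧ ∀ u < 2 ^ 10, ∀ v < 2 ^ 10, el xu u = el xu v → u = v :=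
  sound xu_rel (by decide +kernel)

noncomputable def TU : Tab := ⟨1024, m10, i10⟩

instance okU : Fact TU.OK := ⟨xu_sound.1.ok rfl xu_sound.2⟩

/-- the Sylow subgroup -/
abbrev UU := TG TU

theorem sylow_psu {F : Type*} [Field F] [Fintype F] (hF : Fintype.card F = 4)
    (P : Sylow 2 (PSU 5 F 2)) : Nonempty (UU ≃* P) := by
  have : Fact (⟨1024, m10, i10⟩ : Tab).OK := okU
  have h1 := U.card_SU_mul (F := GF4) (q := 2) (n := 5) (by norm_num)
  rw [U.card_GU] at h1
  simp only [Finset.prod_range_succ, Finset.prod_range_zero] at h1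
  norm_num [Nat.even_iff] at h1
  let k := (Kron.quotCenterEquiv (G := SU 5 GF4 2) (by
    rw [show Nat.card (SU 5 GF4 2 ⧸ _) = _ from TT.Row.card_psu5]; omega)).trans
      (psuCongr 5 2 (ringEquivGF4 hF).symm)
  exact Syl8.sylow_equiv (T := UU) (f := k.toMonoidHom.comp (xu_sound.1.hom rfl))
    (k.injective.comp (xu_sound.1.hom_inj rfl xu_sound.2)) (k := 10) (m := 13365) TG.card
    (by rw [← Nat.card_congr k.toEquiv]; omega) (by norm_num) P

end Cfsg.Agent.SylT.U5
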