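import Mathlib
import Cfsg.Agent.SylT.U5A
import Cfsg.Agent.Gold.Defs

/-! Sylow type `U₅(2)`: computations in the Sylow subgroup. -/

set_option autoImplicit false
set_option maxRecDepth 100000

namespace Cfsg.Agent.SylT.U5

open Subgroup Cfsg.Agent.Comp Cfsg.Agent.X32 Cfsg.Agent.PLocal.Amb Cfsg.Agent.Gold TG

/-- pattern subgroups -/
def msk (m : ℕ) (h : ∀ x : UU, Nat.land x.v m = 0 → Nat.land x⁻¹.v m = 0 ∧
    ∀ y : UU, Nat.land y.v m = 0 → Nat.land (x * y).v m = 0) : Subgroup UU where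
  carrier := {x | Nat.land x.v m = 0}
  one_mem' := Nat.zero_and m
  mul_mem' := fun a b => (h _ a).2 _ b
  inv_mem' := fun a => (h _ a).1

instance bdLand (x : UU) (m : ℕ) {n : ℕ} [EV x n] : BD (Nat.land x.v m = 0) (Nat.beq (Nat.land n m) 0) :=
  ⟨by rw [← EV.h (a := x), beq_iff]⟩

instance bdMsk (m : ℕ) (h) (x : UU) {n : ℕ} [EV x n] : BD (x ∈ msk m h) (Nat.beq (Nat.land n m) 0) :=
  bdLand x m

/-- the elementary abelian group of order 16 -/
abbrev A : Subgroup UU := msk 1008 (BD.of (by decide +kernel))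
/-- its centraliser -/
abbrev R : Subgroup UU := msk 768 (BD.of (by decide +kernel))
/-- the extraspecial group of order 128 -/
abbrev Q : Subgroup UU := msk 200 (BD.of (by decide +kernel))
/-- a four-group -/
abbrev B : Subgroup UU := msk 1014 (BD.of (by decide +kernel))
/-- the central involution -/
noncomputable def z : UU := e 1
/-- a second square -/
noncomputable def s : UU := e 8
/-- the five squares -/
noncomputable def LS : List UU := es [1, 8, 10, 12, 15]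
/-- the solutions of `x ^ 2 = 1` -/
noncomputable def LI : List UU := es [0, 1, 2, 3, 4, 5, 6, 7, 8, 9, 10, 11, 12, 13, 14, 15, 256, 257, 258, 259, 272,
  273, 274, 275, 288, 289, 290, 291, 308, 309, 310, 311, 512, 513, 516, 517, 528, 529, 532, 533, 544,
  545, 548, 549, 562, 563, 566, 567, 768, 769, 774, 775, 786, 787, 788, 789, 802, 803, 804, 805, 818,
  819, 820, 821]
/-- conjugating elements -/
noncomputable def LK : List UU := es [0, 2, 4, 8, 10, 12, 64, 66, 68, 72, 74, 76, 128, 130, 132, 136, 138, 140, 192,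
  194, 196, 200, 202, 204]
/-- the involutions outside `A` with their partners in `A` -/
noncomputable def LU : List (UU × UU) := [(e 256, e 2), (e 512, e 4), (e 768, e 6)]

theorem card_A : Nat.card A = 16 := (card_eq (· ∈ A)).trans (by decide +kernel)
theorem card_B : Nat.card B = 4 := (card_eq (· ∈ B)).trans (by decide +kernel)
theorem z_comm : ∀ x : UU, x * z = z * x := BD.of (by decide +kernel)
theorem z_sq : z * z = 1 := BD.of (by decide +kernel)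
theorem z_ne : z ≠ 1 := BD.of (by decide +kernel)
theorem z_LS : z ∈ LS := BD.of (by decide +kernel)
theorem A_sq : ∀ a ∈ A, a * a = 1 := BD.of (by decide +kernel)
theorem A_le_R : A ≤ R := (BD.of (by decide +kernel) : ∀ a ∈ A, a ∈ R)
theorem A_comm : ∀ a ∈ A, ∀ r ∈ R, r * a = a * r := BD.of (by decide +kernel)
theorem LS_A : ∀ s ∈ LS, s ∈ A ∧ s ≠ 1 := BD.of (by decide +kernel)
theorem mem_LI : ∀ x : UU, x * x = 1 → x ∈ LI := BD.of (by decide +kernel)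
theorem cent_R : ∀ s ∈ es [8, 9, 10, 11, 12, 13, 14, 15], ∀ x : UU, x * s = s * x → x ∈ R :=
  BD.of (by decide +kernel)
theorem sq_R : ∀ r ∈ R, (r * r = 1 ∧ r ∈ A) ∨ r * r ∈ LS := BD.of (by decide +kernel)
theorem root_z : (e 16 : UU) ∈ R ∧ (e 16 : UU) * e 16 = z := BD.of (by decide +kernel)
theorem tr_S : ∀ p ∈ LS, p = z ∨ ∃ k ∈ es [0, 256, 512, 768], k ∈ Q ∧ k * s = p * k :=
  BD.of (by decide +kernel)
theorem cls_U : ∀ p ∈ LU, ∀ x ∈ LI, x * p.2 = p.2 * x → x ∈ A ∨ ∃ k ∈ LK, k * x = p.1 * k :=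
  BD.of (by decide +kernel)
theorem ex_U : ∀ x ∈ LI, ∃ p ∈ LU, x * p.2 = p.2 * x := BD.of (by decide +kernel)
theorem LU_sq : ∀ p ∈ LU, p.1 * p.1 = 1 ∧ p.1 ∉ A ∧ p.1 * p.2 = p.2 * p.1 ∧ p.2 ∈ A ∧ p.2 ≠ 1 ∧
    p.2 ≠ z := BD.of (by decide +kernel)
theorem eight : ∀ p ∈ LU, ∀ t ∈ LI, t * p.1 = p.1 * t → ∀ s ∈ LI, s * p.1 = p.1 * s → s * t = t * s →
    t ∈ [1, p.1, z, p.1 * z] ∨ s ∈ [1, p.1, z, p.1 * z, t, p.1 * t, z * t, p.1 * z * t] :=
  BD.of (by decide +kernel)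
theorem cfg_U : ∀ p ∈ LU, ∃ a ∈ es [2, 4, 6], ∃ b ∈ es [256, 512], a * a = 1 ∧ b * b = 1 ∧
    a * b * (a * b) = z ∧ ∀ c ∈ [a, b, p.1], c * p.1 = p.1 * c ∧ e 22 * c = c * e 22 :=
  BD.of (by decide +kernel)
theorem sq22 : (e 22 : UU) * e 22 = z := BD.of (by decide +kernel)
theorem cfg_no : ∀ a ∈ LI, ∀ b ∈ LI, a * b * (a * b) ∈ [1, z] ∨ (a * b * (a * b) ∉ LS ∧
    (a ∈ es [8, 9, 10, 11, 12, 13, 14, 15] ∨ b ∈ es [8, 9, 10, 11, 12, 13, 14, 15])) :=
  BD.of (by decide +kernel)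
theorem s_LS : s ∈ LS ∧ s ≠ z ∧ s ∈ es [8, 9, 10, 11, 12, 13, 14, 15] ∧ s * e 256 ≠ e 256 * s :=
  BD.of (by decide +kernel)
theorem pairs : ∀ y ∈ A, y = 1 ∨ y ∈ LS ∨ ∃ p ∈ LS, ∃ q ∈ LS, y = p * q := BD.of (by decide +kernel)
theorem LS_mul : ∀ p ∈ LS, ∀ q ∈ LS, p * q ∉ LS ∧ ∀ p' ∈ LS, ∀ q' ∈ LS, p * q = p' * q' →
    p = q ∨ p' = p ∨ p' = q := BD.of (by decide +kernel)
theorem mem_B : ∀ x : UU, x ∈ B ↔ x = 1 ∨ x = z ∨ x = s ∨ x = z * s := BD.of (by decide +kernel)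
theorem z_Q : z ∈ Q := BD.of (by decide +kernel)
theorem Q_sq : ∀ x ∈ Q, x * x = 1 ∨ x * x = z := BD.of (by decide +kernel)
theorem Q_comm : ∀ x ∈ Q, ∀ y ∈ Q, x * y = y * x ∨ x * y = y * x * z := BD.of (by decide +kernel)
theorem cent_Q : ∀ x : UU, (∀ y ∈ es [16, 32, 256, 512, 2, 4], y ∈ Q → x * y = y * x) → x = 1 ∨ x = z :=
  BD.of (by decide +kernel)
theorem inv_Q : ∀ y ∈ LI, y ∈ Q ∨ y ∈ LS ∨ y * z ∈ LS := BD.of (by decide +kernel)
theorem LS_Q : ∀ p ∈ LS, p ∈ Q → p = z := BD.of (by decide +kernel)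
theorem gen_Q : ∀ x ∈ Q, ∃ i ∈ es [0, 2, 4, 512, 528, 544], i ∈ Q ∧ i * i = 1 ∧ i * x * (i * x) = 1 :=
  BD.of (by decide +kernel)
theorem nm_Q : ∀ x ∈ Q, x * x = z → ∀ r : UU, r * x = x * r ∨ r * x = x * z * r →
    r * r ∈ Q ∧ r * r * (r * r) = 1 := BD.of (by decide +kernel)
theorem nm_Q' : ∀ y : UU, y * y = z → y ∈ Q ∨ ∃ r ∈ es [320, 384, 448],
    (r * y = y * r ∨ r * y = y * z * r) ∧ r * r ∉ Q := BD.of (by decide +kernel)
theorem no_W : ∀ x ∈ Q, x * x = z → ∀ y ∈ Q, y * y = z → x * y * (x * y) = z →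
    ∃ t ∈ es [64, 128, 192], ∃ w ∈ [t * x * t⁻¹], w ∈ Q ∧ (∃ u ∈ [x, y], w * u ≠ u * w) ∧
      ∃ u ∈ [w * x, w * y, w * (x * y)], u ≠ 1 ∧ u ≠ z ∧ u * u ≠ z := BD.of (by decide +kernel)

theorem card_c : ∀ p ∈ LU, Nat.card 𝐜[p.2] = 512 := by
  have k : ∀ y : UU, Nat.card 𝐜[y] = Nat.card {x // x * y = y * x} := fun y =>
    Nat.card_congr (Equiv.subtypeEquivRight fun _ => mem_centralizer_singleton_iff)
  simp only [LU, List.forall_mem_cons, k]
  exact ⟨(card_eq _).trans (by decide +kernel), (card_eq _).trans (by decide +kernel),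
    (card_eq _).trans (by decide +kernel), by simp⟩

theorem cls {x : UU} (h : x * x = 1) : x ∈ A ∨ ∃ p ∈ LU, ∃ k, k * x = p.1 * k := by
  obtain ⟨p, hp, a⟩ := ex_U x (mem_LI x h)
  exact (cls_U p hp x (mem_LI x h) a).imp_right fun ⟨k, _, b⟩ => ⟨p, hp, k, b⟩

theorem card_le_list {K : Type*} [Group K] {D : Subgroup K} {l : List K} (h : ∀ x ∈ D, x ∈ l) :
    Nat.card D ≤ l.length := by
  classical
  exact (Set.ncard_le_ncard (t := l.toFinset) (fun x hx => by simpa using h x hx)).trans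
    (by rw [Set.ncard_coe_finset]; exact l.toFinset_card_le)

theorem eq_A {D : Subgroup UU} (h2 : ∀ x ∈ D, x * x = 1) (hc : Nat.card D = 16) : D = A := by
  refine eq_of_le_of_card_ge (fun x hx => by_contra fun r => ?_) (by rw [hc, card_A])
  obtain ⟨p, hp, k, hk⟩ := (cls (h2 x hx)).resolve_left r
  have a : ∀ y ∈ cj(k, D), y * y = 1 := by
    rintro _ ⟨y, hy, rfl⟩
    rw [← map_mul, h2 y hy, map_one]
  have b : ∀ y ∈ cj(k, D), ∀ w ∈ cj(k, D), y * w = w * y := fun y hy w hw => by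
    rw [← inv_eq_of_mul_eq_one_right (a _ (mul_mem hy hw)), mul_inv_rev,
      inv_eq_of_mul_eq_one_right (a y hy), inv_eq_of_mul_eq_one_right (a w hw)]
  have c : p.1 ∈ cj(k, D) := mul_inv_eq_of_eq_mul hk ▸ conj_mem_cj k hx
  rw [← card_cj k] at hc
  by_cases h : ∀ t ∈ cj(k, D), t ∈ [1, p.1, z, p.1 * z]
  · exact absurd (hc ▸ card_le_list h) (by simp)
  · push Not at h
    obtain ⟨t, ht, h⟩ := h
    exact absurd (hc ▸ card_le_list fun y hy => (eight p hp t (mem_LI t (a t ht)) (b t ht _ c) y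
      (mem_LI y (a y hy)) (b y hy _ c) (b y hy t ht)).resolve_left h) (by simp)

theorem isPGroup : IsPGroup 2 UU := IsPGroup.of_card (n := 10) TG.card

end Cfsg.Agent.SylT.U5
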